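import Cfsg.Agent.Lib.Compute.CosetPres
import Mathlib.LinearAlgebra.Matrix.GeneralLinearGroup.Defs
import Mathlib.Algebra.Field.ZMod
import Mathlib.GroupTheory.Abelianization.Defs
import Mathlib.Data.Matrix.Basic

/-!
Coded projective representations by twelve by twelve matrices over the field with seven elements: a group
with such a representation has a central extension by scalars, and a scalar quotient of two words with the
same letters lies in its commutator subgroup.
-/

set_option autoImplicit false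

namespace Cfsg.Agent.ProjCover

open Cfsg.Agent.CosetCert Matrix

/-- Twelve by twelve matrices over seven elements. -/
abbrev M12 := Matrix (Fin 12) (Fin 12) (ZMod 7)

/-- Coded matrices: twelve rows, each packed in lanes of sixteen bits. -/
abbrev C12 := List ℕ

/-- The base of the lanes. -/
abbrev X16 : ℕ := 65536

/-- A lane. -/
def dig (v j : ℕ) : ℕ := v / X16 ^ j % X16

/-- Packing. -/
def pk : ℕ → (ℕ → ℕ) → ℕ
  | 0, _ => 0
  | n + 1, f => f 0 + X16 * pk n fun j => f (j + 1)

theorem pk_get : ∀ (n : ℕ) (f : ℕ → ℕ) (i : ℕ), i < n → (∀ j < n, f j < X16) → dig (pk n f) i = f i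
  | 0, _, _, hi, _ => absurd hi (Nat.not_lt_zero _)
  | n + 1, f, 0, _, hf => by
    simp only [dig, pk, pow_zero, Nat.div_one, Nat.add_mul_mod_self_left]
    exact Nat.mod_eq_of_lt (hf 0 (by omega))
  | n + 1, f, i + 1, hi, hf => by
    have h0 := hf 0 (by omega)
    have e : (f 0 + X16 * pk n fun j => f (j + 1)) / X16 = pk n fun j => f (j + 1) := by
      rw [Nat.add_mul_div_left _ _ (by norm_num : 0 < X16), Nat.div_eq_of_lt h0, Nat.zero_add]
    have := pk_get n (fun j => f (j + 1)) i (by omega) fun j hj => hf (j + 1) (by omega)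
    rw [dig] at this ⊢
    rw [pk, pow_succ', ← Nat.div_div_eq_div_mul, e]
    exact this

theorem pk_lt : ∀ (n : ℕ) (f : ℕ → ℕ), (∀ j < n, f j < X16) → pk n f < X16 ^ n
  | 0, _, _ => by simp [pk]
  | n + 1, f, hf => by
    have h0 := hf 0 (by omega)
    have := pk_lt n (fun j => f (j + 1)) fun j hj => hf (j + 1) (by omega)
    rw [pk, pow_succ']
    nlinarith

theorem pk_congr : ∀ (n : ℕ) {f g : ℕ → ℕ}, (∀ j < n, f j = g j) → pk n f = pk n g
  | 0, _, _, _ => rfl
  | n + 1, f, g, h => by
    rw [pk, pk, h 0 (by omega), pk_congr n fun j hj => h (j + 1) (by omega)]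

theorem pk_dig : ∀ (n v : ℕ), v < X16 ^ n → pk n (dig v) = v
  | 0, v, hv => by simp at hv; simp [pk, hv]
  | n + 1, v, hv => by
    have e : ∀ j, dig v (j + 1) = dig (v / X16) j := fun j => by
      rw [dig, dig, pow_succ', Nat.div_div_eq_div_mul]
    rw [pk, pk_congr n fun j _ => e j, pk_dig n (v / X16)
      (Nat.div_lt_of_lt_mul (by rwa [pow_succ'] at hv)), dig, pow_zero, Nat.div_one]
    exact Nat.mod_add_div v X16

theorem pk_smul_add : ∀ (n a : ℕ) (f g : ℕ → ℕ), a * pk n f + pk n g = pk n fun j => a * f j + g j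
  | 0, _, _, _ => by simp [pk]
  | n + 1, a, f, g => by
    simp only [pk]
    rw [← pk_smul_add n a]
    ring

theorem pk_zero : ∀ n, pk n (fun _ => 0) = 0
  | 0 => rfl
  | n + 1 => by rw [pk, pk_zero n]; rfl

/-- The combination of rows by the lanes of a code. -/
def lin : ℕ → List ℕ → ℕ
  | _, [] => 0
  | a, b :: B => a % X16 * b + lin (a / X16) B

/-- Each lane modulo seven. -/
def red : ℕ → ℕ → ℕ
  | 0, _ => 0
  | n + 1, v => v % X16 % 7 + X16 * red n (v / X16)

theorem red_eq : ∀ n v, red n v = pk n fun j => dig v j % 7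
  | 0, _ => rfl
  | n + 1, v => by
    rw [red, pk, red_eq n (v / X16)]
    simp only [dig, pow_zero, Nat.div_one, Nat.div_div_eq_div_mul, ← pow_succ']

theorem lin_eq : ∀ (B : List ℕ) (a : ℕ), (∀ b ∈ B, b < X16 ^ 12) →
    lin a B = pk 12 fun j => ((List.range B.length).map fun l => dig a l * dig (B.getD l 0) j).sum
  | [], _, _ => by simp [lin, pk_zero]
  | b :: B, a, h => by
    rw [lin, lin_eq B _ fun c hc => h c (List.mem_cons_of_mem _ hc)]
    conv_lhs => rw [← pk_dig 12 b (h b List.mem_cons_self)]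
    rw [pk_smul_add]
    refine pk_congr 12 fun j _ => ?_
    rw [List.length_cons, List.range_succ_eq_map, List.map_cons, List.sum_cons, List.map_map]
    congr 1
    · simp [dig]
    · refine congrArg List.sum (List.map_congr_left fun l _ => ?_)
      simp [Function.comp_def, dig, Nat.div_div_eq_div_mul, pow_succ']

/-- Decoding. -/
def dM (A : C12) : M12 := Matrix.of fun i j => ((dig (A.getD i 0) j : ℕ) : ZMod 7)

/-- Lanes below seven in a row. -/
def rowOK : ℕ → ℕ → Bool
  | 0, v => Nat.beq v 0
  | n + 1, v => Nat.blt (v % X16) 7 && rowOK n (v / X16)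

theorem rowOK_spec : ∀ (n v : ℕ), rowOK n v = true → v < X16 ^ n ∧ ∀ j < n, dig v j < 7
  | 0, v, h => by simp only [rowOK, Nat.beq_eq] at h; simp [h]
  | n + 1, v, h => by
    simp only [rowOK, Bool.and_eq_true, Nat.blt_eq] at h
    obtain ⟨h1, h2⟩ := rowOK_spec n (v / X16) h.2
    refine ⟨?_, fun j hj => ?_⟩
    · rw [pow_succ']
      have := Nat.mod_add_div v X16
      have h7 := h.1
      nlinarith
    · cases j with
      | zero => simpa [dig] using h.1
      | succ j =>
        rw [dig, pow_succ', ← Nat.div_div_eq_div_mul]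
        exact h2 j (by omega)

/-- Twelve rows with reduced lanes. -/
def Good (A : C12) : Prop := A.length = 12 ∧ ∀ r ∈ A, r < X16 ^ 12 ∧ ∀ j < 12, dig r j < 7

/-- The coded test for it. -/
def goodOK (A : C12) : Bool := Nat.beq A.length 12 && A.all (rowOK 12)

theorem good_of (A : C12) (h : goodOK A = true) : Good A := by
  simp only [goodOK, Bool.and_eq_true, Nat.beq_eq, List.all_eq_true] at h
  exact ⟨h.1, fun r hr => rowOK_spec 12 r (h.2 r hr)⟩

/-- The coded product. -/
def mulM (A B : C12) : C12 := A.map fun r => red 12 (lin r B)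

theorem lanes_lt {r : ℕ} (hr : ∀ j < 12, dig r j < 7) {B : C12} (hB : Good B) {j : ℕ} (hj : j < 12) :
    ((List.range B.length).map fun l => dig r l * dig (B.getD l 0) j).sum < X16 := by
  refine lt_of_le_of_lt (List.sum_le_card_nsmul _ 36 fun x hx => ?_) (by simp [hB.1, X16])
  obtain ⟨l, hl, rfl⟩ := List.mem_map.1 hx
  rw [List.mem_range] at hl
  have h1 := hr l (hB.1 ▸ hl)
  have h2 := (hB.2 (B.getD l 0) (by rw [List.getD_eq_getElem _ _ hl]; exact List.getElem_mem _)).2 j hj
  have := Nat.mul_le_mul (Nat.le_of_lt_succ h1) (Nat.le_of_lt_succ h2)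
  simpa using this

theorem good_mul {A B : C12} (hA : Good A) (hB : Good B) : Good (mulM A B) := by
  refine ⟨by rw [mulM, List.length_map, hA.1], fun r hr => ?_⟩
  obtain ⟨a, -, rfl⟩ := List.mem_map.1 hr
  rw [red_eq]
  have hlt : ∀ j < 12, dig (lin a B) j % 7 < X16 := fun j _ => (Nat.mod_lt _ (by norm_num)).trans (by norm_num)
  exact ⟨pk_lt 12 _ hlt, fun j hj => by rw [pk_get 12 _ j hj hlt]; exact Nat.mod_lt _ (by norm_num)⟩

theorem dM_mul {A B : C12} (hA : Good A) (hB : Good B) : dM (mulM A B) = dM A * dM B := by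
  ext i j
  have hi : (i : ℕ) < A.length := by rw [hA.1]; exact i.2
  have hr := hA.2 _ (List.getElem_mem hi)
  show ((dig ((mulM A B).getD i 0) j : ℕ) : ZMod 7) = _
  rw [show (mulM A B).getD i 0 = red 12 (lin A[(i : ℕ)] B) by
      simp [mulM, List.getD_eq_getElem?_getD, hi],
    red_eq, pk_get 12 _ j j.2 fun k _ => (Nat.mod_lt _ (by norm_num)).trans (by norm_num), ZMod.natCast_mod,
    lin_eq B _ fun b hb => (hB.2 b hb).1, pk_get 12 _ j j.2 fun k hk => lanes_lt hr.2 hB hk, hB.1,
    Matrix.mul_apply, Nat.cast_list_sum, List.map_map]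
  rw [← List.map_coe_finRange_eq_range, List.map_map, ← List.sum_toFinset _ (List.nodup_finRange 12),
    List.toFinset_finRange]
  refine Finset.sum_congr rfl fun l _ => ?_
  simp [dM, hi]

/-- The coded scalar matrix. -/
def scalC (c : ℕ) : C12 := (List.range 12).map fun i => c % 7 * X16 ^ i

theorem dig_scal (c i j : ℕ) : dig (c % 7 * X16 ^ i) j = if i = j then c % 7 else 0 := by
  have hc : c % 7 < X16 := (Nat.mod_lt _ (by norm_num)).trans (by norm_num)
  have hp : ∀ k, 0 < X16 ^ k := fun k => pow_pos (by norm_num) k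
  rcases lt_trichotomy i j with h | rfl | h
  · rw [if_neg h.ne, dig, Nat.div_eq_of_lt, Nat.zero_mod]
    calc c % 7 * X16 ^ i < X16 * X16 ^ i := Nat.mul_lt_mul_of_pos_right hc (hp i)
      _ = X16 ^ (i + 1) := (pow_succ' _ _).symm
      _ ≤ X16 ^ j := Nat.pow_le_pow_right (by norm_num) h
  · rw [if_pos rfl, dig, Nat.mul_div_cancel _ (hp i), Nat.mod_eq_of_lt hc]
  · rw [if_neg (Nat.ne_of_gt h), dig, show i = (i - j - 1 + 1) + j by omega, pow_add, ← mul_assoc,
      Nat.mul_div_cancel _ (hp j), pow_succ, ← mul_assoc, Nat.mul_mod_left]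

theorem good_scal (c : ℕ) : Good (scalC c) := by
  refine ⟨by simp [scalC], fun r hr => ?_⟩
  obtain ⟨i, hi, rfl⟩ := List.mem_map.1 hr
  rw [List.mem_range] at hi
  refine ⟨?_, fun j _ => by rw [dig_scal]; split_ifs; exacts [Nat.mod_lt _ (by norm_num), by norm_num]⟩
  calc c % 7 * X16 ^ i < X16 * X16 ^ i := Nat.mul_lt_mul_of_pos_right
        ((Nat.mod_lt _ (by norm_num)).trans (by norm_num)) (pow_pos (by norm_num) i)
    _ = X16 ^ (i + 1) := (pow_succ' _ _).symm
    _ ≤ X16 ^ 12 := Nat.pow_le_pow_right (by norm_num) hi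

theorem dM_scal (c : ℕ) : dM (scalC c) = Matrix.scalar (Fin 12) (c : ZMod 7) := by
  ext i j
  show ((dig ((scalC c).getD i 0) j : ℕ) : ZMod 7) = _
  rw [show (scalC c).getD i 0 = c % 7 * X16 ^ (i : ℕ) by simp [scalC, List.getD_eq_getElem?_getD, i.2],
    dig_scal, Matrix.scalar_apply]
  by_cases h : i = j <;> simp [h, Fin.val_inj, ZMod.natCast_mod]

theorem dM_one : dM (scalC 1) = 1 := by rw [dM_scal, Nat.cast_one, map_one]

variable (Ms Ns : List C12)

/-- The matrices and their inverses. -/
def invOK : Bool :=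
  Nat.beq Ns.length Ms.length && allBelow (fun k =>
    goodOK (Ms.getD k (scalC 1)) && goodOK (Ns.getD k (scalC 1)) &&
    mulM (Ms.getD k (scalC 1)) (Ns.getD k (scalC 1)) == scalC 1 &&
      mulM (Ns.getD k (scalC 1)) (Ms.getD k (scalC 1)) == scalC 1) Ms.length
where allBelow (f : ℕ → Bool) : ℕ → Bool
  | 0 => true
  | n + 1 => allBelow f n && f n

theorem allBelow_spec (f : ℕ → Bool) : ∀ n, invOK.allBelow f n = true → ∀ k < n, f k = true
  | 0, _, k, hk => absurd hk (Nat.not_lt_zero _)
  | n + 1, h, k, hk => by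
    simp only [invOK.allBelow, Bool.and_eq_true] at h
    rcases Nat.lt_succ_iff_lt_or_eq.1 hk with h' | rfl
    exacts [allBelow_spec f n h.1 k h', h.2]

/-- The product of a word. -/
def evM : List ℕ → C12
  | [] => scalC 1
  | x :: w => mulM (Ms.getD x (scalC 1)) (evM w)

variable {Ms Ns}

/-- A unit for each number. -/
noncomputable def unit (h : invOK Ms Ns = true) (k : ℕ) : M12ˣ :=
  if hk : k < Ms.length then
    ⟨dM (Ms.getD k (scalC 1)), dM (Ns.getD k (scalC 1)), by
      simp only [invOK, Bool.and_eq_true] at h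
      have := allBelow_spec _ _ h.2 k hk
      simp only [Bool.and_eq_true, beq_iff_eq] at this
      rw [← dM_mul (good_of _ this.1.1.1) (good_of _ this.1.1.2), this.1.2, dM_one], by
      simp only [invOK, Bool.and_eq_true] at h
      have := allBelow_spec _ _ h.2 k hk
      simp only [Bool.and_eq_true, beq_iff_eq] at this
      rw [← dM_mul (good_of _ this.1.1.2) (good_of _ this.1.1.1), this.2, dM_one]⟩
  else 1

theorem val_unit (h : invOK Ms Ns = true) {k : ℕ} (hk : k < Ms.length) :
    (unit h k : M12) = dM (Ms.getD k (scalC 1)) := by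
  rw [unit, dif_pos hk]

theorem good_get (h : invOK Ms Ns = true) (k : ℕ) : Good (Ms.getD k (scalC 1)) := by
  by_cases hk : k < Ms.length
  · simp only [invOK, Bool.and_eq_true] at h
    have := allBelow_spec _ _ h.2 k hk
    simp only [Bool.and_eq_true] at this
    exact good_of _ this.1.1.1
  · rw [List.getD_eq_default _ _ (not_lt.1 hk)]
    exact good_scal 1

theorem good_evM (h : invOK Ms Ns = true) : ∀ w : List ℕ, Good (evM Ms w)
  | [] => good_scal 1
  | x :: w => good_mul (good_get h x) (good_evM h w)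

theorem val_wprod (h : invOK Ms Ns = true) : ∀ w : List ℕ, (∀ x ∈ w, x < Ms.length) →
    ((wprod (unit h) w : M12ˣ) : M12) = dM (evM Ms w)
  | [], _ => by rw [wprod_nil, Units.val_one, evM, dM_one]
  | x :: w, hw => by
    rw [wprod_cons, Units.val_mul, val_unit h (hw x List.mem_cons_self),
      val_wprod h w fun y hy => hw y (List.mem_cons_of_mem _ hy), evM,
      dM_mul (good_get h x) (good_evM h w)]

/-- The word is a scalar. -/
def scalOK (Ms : List C12) (w : List ℕ) : Bool :=
  w.all (fun x => Nat.blt x Ms.length) && (List.range 7).any fun c => evM Ms w == scalC c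

/-- The quotient by the centre. -/
abbrev PG12 : Type := M12ˣ ⧸ Subgroup.center M12ˣ

/-- The class of a matrix. -/
noncomputable def cls (h : invOK Ms Ns = true) (k : ℕ) : PG12 := QuotientGroup.mk (unit h k)

theorem wprod_cls (h : invOK Ms Ns = true) (w : List ℕ) :
    wprod (cls h) w = QuotientGroup.mk (wprod (unit h) w) := by
  induction w with
  | nil => rw [wprod_nil, wprod_nil]; rfl
  | cons x w ih => rw [wprod_cons, wprod_cons, ih]; rfl

theorem scalar_central {u : M12ˣ} {c : ZMod 7} (h : (u : M12) = Matrix.scalar (Fin 12) c) :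
    u ∈ Subgroup.center M12ˣ := by
  rw [Subgroup.mem_center_iff]
  intro v
  refine Units.ext ?_
  rw [Units.val_mul, Units.val_mul, h]
  exact ((Matrix.scalar_commute c (fun r' => Commute.all _ _) (v : M12))).eq.symm

theorem cls_eq_one (h : invOK Ms Ns = true) {w : List ℕ} (hw : scalOK Ms w = true) : wprod (cls h) w = 1 := by
  simp only [scalOK, Bool.and_eq_true, List.all_eq_true, Nat.blt_eq, List.any_eq_true, beq_iff_eq] at hw
  obtain ⟨hlt, c, -, hc⟩ := hw
  rw [wprod_cls, QuotientGroup.eq_one_iff]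
  exact scalar_central (c := (c : ZMod 7)) (by rw [val_wprod h w hlt, hc, dM_scal])

/-- Two words with the same letters whose matrices differ by a scalar. -/
def witOK (Ms : List C12) (u v : List ℕ) (c : ℕ) : Bool :=
  u.all (fun x => Nat.blt x Ms.length) && v.isPerm u && evM Ms u == mulM (scalC c) (evM Ms v)

/-- The central extension given by a projective representation. -/
theorem exists_extension {G : Type*} [Group G] (g : ℕ → G)
    (hg : Subgroup.closure (g '' {x | x < Ms.length}) = ⊤) (h : invOK Ms Ns = true) (ρ : G →* PG12)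
    (hρ : ∀ k < Ms.length, ρ (g k) = cls h k) {u v : List ℕ} {c n : ℕ} (hw : witOK Ms u v c = true)
    (huv : wprod g u = wprod g v) (hn : orderOf (c : ZMod 7) = n) :
    ∃ (X : Subgroup (M12ˣ × G)) (σ : X →* G), Function.Surjective σ ∧ σ.ker ≤ Subgroup.center X ∧
      ∃ q ∈ σ.ker ⊓ commutator X, orderOf q = n := by
  let X : Subgroup (M12ˣ × G) := Subgroup.closure ((fun k => (unit h k, g k)) '' {x | x < Ms.length})
  let σ : X →* G := (MonoidHom.snd _ _).comp X.subtype
  have hX : ∀ x ∈ X, (QuotientGroup.mk x.1 : PG12) = ρ x.2 := by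
    intro x hx
    induction hx using Subgroup.closure_induction with
    | mem y hy =>
      obtain ⟨k, hk, rfl⟩ := hy
      exact (hρ k hk).symm
    | one => simp
    | mul a b _ _ ha hb => simp [ha, hb]
    | inv a _ ha => simp [ha]
  have hs : Function.Surjective σ := by
    rw [← MonoidHom.range_eq_top, eq_top_iff, ← hg, Subgroup.closure_le]
    rintro _ ⟨k, hk, rfl⟩
    exact ⟨⟨(unit h k, g k), Subgroup.subset_closure ⟨k, hk, rfl⟩⟩, rfl⟩
  have hc : σ.ker ≤ Subgroup.center X := by
    intro x hx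
    have h2 : (x : M12ˣ × G).2 = 1 := hx
    have h1 : (x : M12ˣ × G).1 ∈ Subgroup.center M12ˣ := by
      rw [← QuotientGroup.eq_one_iff, hX _ x.2, h2, map_one]
    rw [Subgroup.mem_center_iff]
    intro y
    exact Subtype.ext (Prod.ext (Subgroup.mem_center_iff.1 h1 _)
      (by simp only [Subgroup.coe_mul, Prod.snd_mul, h2, mul_one, one_mul]))
  let p : ℕ → X := fun k => if hk : k < Ms.length then
    ⟨(unit h k, g k), Subgroup.subset_closure ⟨k, hk, rfl⟩⟩ else 1
  have hval : ∀ w : List ℕ, (∀ x ∈ w, x < Ms.length) →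
      ((wprod p w : X) : M12ˣ × G) = (wprod (unit h) w, wprod g w) := by
    intro w
    induction w with
    | nil => intro _; rfl
    | cons x w ih =>
      intro hw
      rw [wprod_cons, wprod_cons, wprod_cons, Subgroup.coe_mul, ih fun y hy => hw y (List.mem_cons_of_mem _ hy)]
      simp only [p, dif_pos (hw x List.mem_cons_self), Prod.mk_mul_mk]
  simp only [witOK, Bool.and_eq_true, List.all_eq_true, Nat.blt_eq, List.isPerm_iff, beq_iff_eq] at hw
  obtain ⟨⟨hu, hperm⟩, hval2⟩ := hw
  have hv : ∀ x ∈ v, x < Ms.length := fun x hx => hu x (hperm.mem_iff.1 hx)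
  refine ⟨X, σ, hs, hc, wprod p u * (wprod p v)⁻¹, ⟨?_, ?_⟩, ?_⟩
  · show ((wprod p u * (wprod p v)⁻¹ : X) : M12ˣ × G).2 = 1
    rw [Subgroup.coe_mul, Subgroup.coe_inv, hval u hu, hval v hv, Prod.snd_mul, Prod.snd_inv, huv,
      mul_inv_cancel]
  · show wprod p u * (wprod p v)⁻¹ ∈ commutator X
    rw [← Abelianization.ker_of, MonoidHom.mem_ker, map_mul, map_inv, mul_inv_eq_one]
    simp only [CosetCert.wprod, map_list_prod]
    exact ((hperm.symm.map p).map Abelianization.of).prod_eq
  · have hq : (((wprod p u * (wprod p v)⁻¹ : X) : M12ˣ × G).1 : M12) = Matrix.scalar (Fin 12) (c : ZMod 7) := by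
      rw [Subgroup.coe_mul, Subgroup.coe_inv, hval u hu, hval v hv]
      show ((wprod (unit h) u * (wprod (unit h) v)⁻¹ : M12ˣ) : M12) = _
      rw [Units.val_mul, val_wprod h u hu, hval2, dM_mul (good_scal c) (good_evM h v), dM_scal, ← val_wprod h v hv, mul_assoc,
        ← Units.val_mul, mul_inv_cancel, Units.val_one, mul_one]
    have hsnd : ((wprod p u * (wprod p v)⁻¹ : X) : M12ˣ × G).2 = 1 := by
      rw [Subgroup.coe_mul, Subgroup.coe_inv, hval u hu, hval v hv, Prod.snd_mul, Prod.snd_inv, huv,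
        mul_inv_cancel]
    rw [← orderOf_injective X.subtype X.subtype_injective, Subgroup.coe_subtype, Prod.orderOf, hsnd, orderOf_one,
      Nat.lcm_one_right, ← orderOf_injective (Units.coeHom M12) Units.val_injective, Units.coeHom_apply, hq,
      ← hn]
    exact orderOf_injective (Matrix.scalar (Fin 12) : ZMod 7 →+* M12).toMonoidHom
      (fun a b e => Matrix.scalar_inj.1 e) _

/-- A map from a group given by a Coxeter graph, from values satisfying the base relators. -/
theorem exists_setup_hom {α : Type} [DecidableEq α] (S : Setup α) {H : Type} [Group H] (f : ℕ → H)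
    (hf : ∀ i < S.P.k, f i * f i = 1) (hb : ∀ w ∈ S.base, wprod f w = 1) :
    ∃ ρ : S.G →* H, ∀ i < S.P.k, ρ (S.gen i) = f i := by
  let φ : α → H := fun a => f (S.ix a)
  have hinv : ∀ a, φ a * φ a = 1 := fun a => hf _ (S.ix_lt a)
  have hrev : ∀ w : List ℕ, wprod (fun x => φ (S.gi x)) w.reverse = (wprod (fun x => φ (S.gi x)) w)⁻¹ :=
    fun w => wprod_reverse (gen := fun x => φ (S.gi x)) (fun x => hinv _) w
  have hlt : ∀ w ∈ S.base, ∀ x ∈ w, x < S.P.k := by
    intro w hw x hx
    have h := S.fix_base w hw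
    simp only [Fixes, List.all_eq_true, Nat.blt_eq] at h
    exact h.1 x hx
  have hbase : ∀ w ∈ S.base, wprod (fun x => φ (S.gi x)) w = 1 := by
    intro w hw
    rw [← hb w hw]
    show (w.map fun x => φ (S.gi x)).prod = (w.map f).prod
    rw [List.map_congr_left fun x hx => show φ (S.gi x) = f x by
      show f (S.ix (S.gi x)) = f x
      rw [S.ix_gi x (hlt w hw x hx)]]
  have hrels : ∀ r ∈ Cfsg.Spor.coxRelators S.edges ∪ {r | r ∈ S.extra}, FreeGroup.lift φ r = 1 := by
    intro r hr
    rcases hr with ⟨a, -, b, -, rfl⟩ | hr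
    · rw [map_pow, map_mul, FreeGroup.lift_apply_of, FreeGroup.lift_apply_of]
      by_cases hab : a = b
      · subst hab; rw [coxLabel_self, pow_one]; exact hinv a
      have h := S.pairs
      simp only [pairsOK, List.all_eq_true, Bool.and_eq_true, Bool.or_eq_true, Nat.beq_eq,
        List.any_eq_true, List.mem_range] at h
      rcases (h _ (S.ix_lt a)).2 _ (S.ix_lt b) with h1 | ⟨w, hw, he⟩
      · exact absurd (by rw [← S.gi_ix a, h1, S.gi_ix]) hab
      have h2 : wprod (fun x => φ (S.gi x)) (pairWord S.edges S.gi (S.ix a) (S.ix b)) = 1 := by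
        rcases he with he | he <;> rw [eq_of_wordEq he]
        · exact hbase w hw
        · rw [hrev, hbase w hw, inv_one]
      rw [pairWord, S.gi_ix, S.gi_ix, wprod_rep, wprod_cons, wprod_cons, wprod_nil, mul_one, S.gi_ix,
        S.gi_ix] at h2
      exact h2
    · have key := S.spec φ hinv
      obtain ⟨t, ht, rfl⟩ := List.getElem_of_mem hr
      have ht' : t < S.extraW.length := key.length_eq ▸ ht
      have h1 := List.Forall₂.get key ht ht'
      simp only [List.get_eq_getElem] at h1
      rw [h1]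
      have h := S.extras
      simp only [extraOK, List.all_eq_true, List.any_eq_true] at h
      obtain ⟨w, hw, he⟩ := h _ (List.getElem_mem ht')
      rw [eq_of_wordEq he]
      exact hbase w hw
  refine ⟨PresentedGroup.toGroup hrels, fun i hi => ?_⟩
  rw [Setup.gen, PresentedGroup.toGroup.of]
  show f (S.ix (S.gi i)) = f i
  rw [S.ix_gi i hi]

end Cfsg.Agent.ProjCover
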