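import Cfsg.Agent.Lib.ProjCover.SuzData
import Cfsg.Agent.Lib.SchurMult.G24Group

/-! A double cover of G2(4) from six of the matrices. -/

set_option autoImplicit false
set_option maxRecDepth 100000
set_option Elab.async false
set_option linter.style.haveILetI false

namespace Cfsg.Agent.ProjCover

open Cfsg.Agent.CosetCert Cfsg.Agent.PermCert Cfsg.Agent.PermAut

theorem g24_inv : invOK (suzMs.take 6) (suzNs.take 6) = true := by decide +kernel

theorem g24_scal : (SuzG24.rels.all (scalOK (suzMs.take 6))) = true := by decide +kernel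

theorem g24_wit : witOK (suzMs.take 6) g24U g24V 6 = true := by decide +kernel

theorem g24_six : orderOf ((6 : ℕ) : ZMod 7) = 2 := by
  rw [orderOf_eq_iff (by norm_num)]
  exact ⟨by decide, fun m hm h0 => by interval_cases m; decide⟩

theorem g24_words : (g24U ++ g24V).all (fun x => Nat.blt x 6) &&
    same 9 416 (g24U.map fun x => (SchurMult.g24Gens.getD x (0, 0)).1)
      (g24V.map fun x => (SchurMult.g24Gens.getD x (0, 0)).1) = true := by decide +kernel

theorem g24_len : SchurMult.g24Gens.length = 6 := rfl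

attribute [local irreducible] suzMs suzNs g24U g24V SchurMult.g24Gens

theorem g24Perm_mk (x : FreeGroup (Fin 6)) :
    SchurMult.g24Perm (PresentedGroup.mk _ x) = FreeGroup.lift SchurMult.g24Gen x := rfl

/-- A generator of the group by number. -/
noncomputable def a6gen (x : ℕ) : SuzG24.A6 := PresentedGroup.mk _ (SuzG24.fgen x)

theorem a6gen_wprod (w : List ℕ) : wprod a6gen w = PresentedGroup.mk _ (wprod SuzG24.fgen w) := by
  induction w with
  | nil => rw [wprod_nil, wprod_nil, map_one]
  | cons x w ih => rw [wprod_cons, wprod_cons, map_mul, ih]; rfl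

/-- A central extension of G2(4) with an involution in the kernel and the commutator subgroup. -/
theorem exists_g24_cover : ∃ (X : Type) (_ : Group X) (σ : X →* SuzG24.A6), Function.Surjective σ ∧
    σ.ker ≤ Subgroup.center X ∧ ∃ q ∈ σ.ker ⊓ commutator X, orderOf q = 2 := by
  have hlen : (suzMs.take 6).length = 6 := by decide +kernel
  have hcl : Subgroup.closure (a6gen '' {x | x < (suzMs.take 6).length}) = ⊤ := by
    rw [hlen, eq_top_iff, ← PresentedGroup.closure_range_of]
    refine Subgroup.closure_mono ?_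
    rintro _ ⟨i, rfl⟩
    exact ⟨i, i.2, by rw [a6gen, SuzG24.fgen, Fin.ofNat_eq_cast, Fin.cast_val_eq_self]; rfl⟩
  let f : Fin 6 → PG12 := fun i => cls g24_inv i
  have hlift : ∀ w : List ℕ, (∀ x ∈ w, x < 6) →
      FreeGroup.lift f (wprod SuzG24.fgen w) = wprod (cls g24_inv) w := by
    intro w
    induction w with
    | nil => intro _; rw [wprod_nil, wprod_nil, map_one]
    | cons x w ih =>
      intro h
      rw [wprod_cons, wprod_cons, map_mul, ih fun y hy => h y (List.mem_cons_of_mem _ hy), SuzG24.fgen,
        FreeGroup.lift_apply_of]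
      show cls g24_inv ((Fin.ofNat 6 x : Fin 6) : ℕ) * _ = _
      rw [Fin.val_ofNat, Nat.mod_eq_of_lt (h x List.mem_cons_self)]
  have hrels : ∀ r ∈ {r : FreeGroup (Fin 6) | ∃ w ∈ SuzG24.rels, r = wprod SuzG24.fgen w},
      FreeGroup.lift f r = 1 := by
    rintro r ⟨w, hw, rfl⟩
    have h := List.all_eq_true.1 g24_scal w hw
    have h1 := h
    simp only [scalOK, Bool.and_eq_true, List.all_eq_true, Nat.blt_eq] at h1
    rw [hlift w fun x hx => by rw [← hlen]; exact h1.1 x hx]
    exact cls_eq_one g24_inv h
  have hρ : ∀ k < (suzMs.take 6).length, PresentedGroup.toGroup hrels (a6gen k) = cls g24_inv k := by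
    intro k hk
    rw [hlen] at hk
    rw [a6gen, SuzG24.fgen]
    refine (PresentedGroup.toGroup.of hrels).trans ?_
    show cls g24_inv ((Fin.ofNat 6 k : Fin 6) : ℕ) = _
    rw [Fin.val_ofNat, Nat.mod_eq_of_lt hk]
  have huv : wprod a6gen g24U = wprod a6gen g24V := by
    have h := g24_words
    simp only [Bool.and_eq_true, List.all_eq_true, Nat.blt_eq, List.mem_append] at h
    refine SchurMult.g24Perm_injective ?_
    rw [a6gen_wprod, a6gen_wprod]
    rw [g24Perm_mk, g24Perm_mk]
    rw [SchurMult.g24_wprod _ fun x hx => h.1 x (Or.inl hx), SchurMult.g24_wprod _ fun x hx => h.1 x (Or.inr hx)]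
    have hv : ∀ w : List ℕ, (∀ x ∈ w, x < 6) →
        ∀ e ∈ w.map (fun x => SchurMult.g24Gens.getD x (0, 0)), validElt 9 416 e = true := by
      intro w hw e he
      obtain ⟨x, hx, rfl⟩ := List.mem_map.1 he
      have hx6 : x < SchurMult.g24Gens.length := g24_len.symm ▸ hw x hx
      exact SchurMult.g24_valid _ (by rw [List.getD_eq_getElem _ _ hx6]; exact List.getElem_mem _)
    exact SporPerm.Cyc.same_toPerm (hv _ fun x hx => h.1 x (Or.inl hx)) (hv _ fun x hx => h.1 x (Or.inr hx))
      (by simpa [Function.comp_def] using h.2)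
  obtain ⟨X, σ, h1, h2, h3⟩ := exists_extension a6gen hcl g24_inv (PresentedGroup.toGroup hrels) hρ g24_wit huv
    g24_six
  exact ⟨X, inferInstance, σ, h1, h2, h3⟩

end Cfsg.Agent.ProjCover
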