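import Cfsg.Agent.Lib.ProjCover.SuzData
import Cfsg.Agent.Lib.RigidGraph.Suz.Presented

/-! A sixfold cover of the Suzuki group from the seven matrices. -/

set_option autoImplicit false
set_option maxRecDepth 100000
set_option Elab.async false

namespace Cfsg.Agent.ProjCover

open Cfsg.Agent.CosetCert Cfsg.Agent.RigidGraph.Suz

theorem suz_inv : invOK suzMs suzNs = true := by decide +kernel

theorem suz_scal : (Cfsg.Agent.CosetData.SuzA.base.all (scalOK suzMs)) = true ∧
    ((List.range 7).all fun i => scalOK suzMs [i, i]) = true := by decide +kernel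

theorem suz_wit : witOK suzMs suzU suzV 3 = true := by decide +kernel

theorem suz_three : orderOf ((3 : ℕ) : ZMod 7) = 6 := by
  rw [orderOf_eq_iff (by norm_num)]
  exact ⟨by decide, fun m hm h0 => by interval_cases m <;> decide⟩

theorem suz_words : wordFix Cfsg.Agent.CosetData.SuzA.P 1782 (suzU ++ suzV.reverse) = true := by decide +kernel

/-- A central extension of the Suzuki group with a kernel element of order six in the commutator subgroup. -/
theorem exists_suz_cover : ∃ (X : Type) (_ : Group X) (σ : X →* PG), Function.Surjective σ ∧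
    σ.ker ≤ Subgroup.center X ∧ ∃ q ∈ σ.ker ⊓ commutator X, orderOf q = 6 := by
  have hk : Cfsg.Agent.CosetData.SuzA.setup.P.k = 7 := rfl
  have hlen : suzMs.length = 7 := by decide +kernel
  have hcl : Subgroup.closure (pgen '' {x | x < suzMs.length}) = ⊤ := by
    rw [hlen]
    exact Cfsg.Agent.CosetData.SuzA.setup.closure_gen
  obtain ⟨ρ, hρ⟩ := exists_setup_hom Cfsg.Agent.CosetData.SuzA.setup (cls suz_inv)
    (fun i hi => by
      have h := cls_eq_one suz_inv (List.all_eq_true.1 suz_scal.2 i (List.mem_range.2 (hk ▸ hi)))
      rwa [wprod_cons, wprod_cons, wprod_nil, mul_one] at h)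
    (fun w hw => cls_eq_one suz_inv (List.all_eq_true.1 suz_scal.1 w hw))
  have huv : wprod pgen suzU = wprod pgen suzV := by
    have hinj : Function.Injective tableHom := by
      intro a b e
      refine range_eq.2 ?_
      simp only [toPerm, MonoidHom.comp_apply, e]
    have hfix := fixes_of_wordFix _ suz_words
    have hlt := hfix.1
    simp only [List.all_eq_true, Nat.blt_eq] at hlt
    have hval : ∀ w : List ℕ, (∀ x ∈ w, x < 7) →
        tableHom (wprod pgen w) = wprod (genPerm Cfsg.Agent.CosetData.SuzA.tab_ok) w := by
      intro w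
      induction w with
      | nil => intro _; rw [wprod_nil, wprod_nil]; exact map_one _
      | cons x w ih =>
        intro h
        rw [wprod_cons, wprod_cons, map_mul, tableHom_gen (h x List.mem_cons_self),
          ih fun y hy => h y (List.mem_cons_of_mem _ hy)]
    have h1 : wprod pgen (suzU ++ suzV.reverse) = 1 := by
      refine hinj ?_
      rw [hval _ hlt, map_one]
      exact wprod_eq_one_of_fixes Cfsg.Agent.CosetData.SuzA.tab_ok hfix
    rwa [wprod_append, wprod_reverse pgen_invol, mul_inv_eq_one] at h1
  obtain ⟨X, σ, h1, h2, h3⟩ := exists_extension pgen hcl suz_inv ρ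
    (fun k hk' => hρ k (by rw [hk]; exact hlen ▸ hk')) suz_wit huv suz_three
  exact ⟨X, inferInstance, σ, h1, h2, h3⟩

end Cfsg.Agent.ProjCover
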